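import Cfsg.Agent.Lib.Comp.M22.Perm
import Cfsg.Agent.Lib.Comp.Out

set_option maxRecDepth 100000

namespace Cfsg.Lib.Comp.M22

universe u

noncomputable def on_1 : Net :=
 (Net.cons 12 (nat_lit 0x574)
 (Net.cons 6 (nat_lit 0x2803a)
 (Net.cons 1 (nat_lit 0x8208)
 (Net.cons 1 (nat_lit 0x402092)
 (Net.cons 1 (nat_lit 0x9)
 (Net.cons 3 (nat_lit 0xc1085)
 (Net.cons 6 (nat_lit 0x3d03d)
 (Net.cons 12 (nat_lit 0x6d1)
 Net.nil))))))))

noncomputable def on_2 : Net :=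
 (Net.cons 12 (nat_lit 0x63e)
 (Net.cons 6 (nat_lit 0x4004)
 (Net.cons 3 (nat_lit 0x2)
 (Net.cons 1 (nat_lit 0x200248)
 (Net.cons 1 (nat_lit 0x82400)
 (Net.cons 1 (nat_lit 0x40200)
 (Net.cons 3 (nat_lit 0x41004)
 (Net.cons 6 (nat_lit 0x8023)
 (Net.cons 12 (nat_lit 0x6bd)
 Net.nil)))))))))

noncomputable def on_3 : Net :=
 (Net.cons 12 (nat_lit 0xc00)
 (Net.cons 6 (nat_lit 0x2c000)
 (Net.cons 3 (nat_lit 0x4184)
 (Net.cons 1 (nat_lit 0x48000)
 (Net.cons 1 (nat_lit 0x10412)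
 (Net.cons 1 (nat_lit 0x208)
 (Net.cons 3 (nat_lit 0x81183)
 (Net.cons 6 (nat_lit 0x33000)
 (Net.cons 12 (nat_lit 0xf80)
 Net.nil)))))))))

noncomputable def on_4 : Net :=
 (Net.cons 12 (nat_lit 0xf80)
 (Net.cons 6 (nat_lit 0x18000)
 (Net.cons 3 (nat_lit 0x2000)
 (Net.cons 1 (nat_lit 0x41008)
 (Net.cons 1 (nat_lit 0x482002)
 (Net.cons 1 (nat_lit 0x200001)
 (Net.cons 3 (nat_lit 0x4001)
 (Net.cons 6 (nat_lit 0x10000)
 (Net.cons 12 (nat_lit 0xc00)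
 Net.nil)))))))))

noncomputable def on_5 : Net :=
 (Net.cons 12 (nat_lit 0xc54)
 (Net.cons 6 (nat_lit 0x20000)
 (Net.cons 3 (nat_lit 0x80006)
 (Net.cons 1 (nat_lit 0x208040)
 (Net.cons 1 (nat_lit 0x492090)
 (Net.cons 1 (nat_lit 0x241048)
 (Net.cons 3 (nat_lit 0x5044)
 (Net.cons 6 (nat_lit 0x3008)
 (Net.cons 12 (nat_lit 0xcca)
 Net.nil)))))))))

noncomputable def on_7 : Net :=
 (Net.cons 12 (nat_lit 0x394)
 (Net.cons 6 (nat_lit 0xe008)
 (Net.cons 3 (nat_lit 0x84006)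
 (Net.cons 1 (nat_lit 0x240241)
 (Net.cons 1 (nat_lit 0x90492)
 (Net.cons 1 (nat_lit 0x48208)
 (Net.cons 3 (nat_lit 0xc10c2)
 (Net.cons 6 (nat_lit 0x20)
 (Net.cons 12 (nat_lit 0xa5)
 Net.nil)))))))))

noncomputable def on_11 : Net :=
 (Net.cons 12 (nat_lit 0x920)
 (Net.cons 6 (nat_lit 0x803a)
 (Net.cons 3 (nat_lit 0x104104)
 (Net.cons 1 (nat_lit 0x240000)
 (Net.cons 1 (nat_lit 0x402090)
 (Net.cons 1 (nat_lit 0x201048)
 (Net.cons 3 (nat_lit 0x3044)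
 (Net.cons 6 (nat_lit 0x2020)
 (Net.cons 12 (nat_lit 0xba8)
 Net.nil)))))))))

noncomputable def on_13 : Net :=
 (Net.cons 12 (nat_lit 0x1a2)
 (Net.cons 6 (nat_lit 0x1a028)
 (Net.cons 3 (nat_lit 0x6004)
 (Net.cons 1 (nat_lit 0x8008)
 (Net.cons 1 (nat_lit 0x10492)
 (Net.cons 1 (nat_lit 0x248)
 (Net.cons 3 (nat_lit 0x87002)
 (Net.cons 6 (nat_lit 0x1e036)
 (Net.cons 12 (nat_lit 0x188)
 Net.nil)))))))))

noncomputable def on_15 : Net :=
 (Net.cons 12 (nat_lit 0x516)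
 (Net.cons 6 (nat_lit 0xe014)
 (Net.cons 3 (nat_lit 0x180100)
 (Net.cons 1 (nat_lit 0x240040)
 (Net.cons 1 (nat_lit 0x412080)
 (Net.cons 1 (nat_lit 0x208040)
 (Net.cons 3 (nat_lit 0x1c1184)
 (Net.cons 6 (nat_lit 0x603a)
 (Net.cons 12 (nat_lit 0x79e)
 Net.nil)))))))))

noncomputable def on_17 : Net :=
 (Net.cons 12 (nat_lit 0x7b8)
 (Net.cons 3 (nat_lit 0x104084)
 (Net.cons 1 (nat_lit 0x201208)
 (Net.cons 1 (nat_lit 0x412410)
 (Net.cons 1 (nat_lit 0x8000)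
 (Net.cons 3 (nat_lit 0x1001c0)
 (Net.cons 6 (nat_lit 0xe008)
 (Net.cons 12 (nat_lit 0x64c)
 Net.nil))))))))

noncomputable def on_19 : Net :=
 (Net.cons 12 (nat_lit 0x34)
 (Net.cons 6 (nat_lit 0x38008)
 (Net.cons 3 (nat_lit 0x182000)
 (Net.cons 1 (nat_lit 0x48240)
 (Net.cons 1 (nat_lit 0x480490)
 (Net.cons 1 (nat_lit 0x200040)
 (Net.cons 3 (nat_lit 0x103144)
 (Net.cons 6 (nat_lit 0x33030)
 (Net.cons 12 (nat_lit 0x34)
 Net.nil)))))))))

noncomputable def on_21 : Net :=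
 (Net.cons 12 (nat_lit 0xde8)
 (Net.cons 6 (nat_lit 0x24020)
 (Net.cons 3 (nat_lit 0x100000)
 (Net.cons 1 (nat_lit 0x249040)
 (Net.cons 1 (nat_lit 0x492080)
 (Net.cons 1 (nat_lit 0x209000)
 (Net.cons 3 (nat_lit 0x104140)
 (Net.cons 6 (nat_lit 0x18020)
 (Net.cons 12 (nat_lit 0xe90)
 Net.nil)))))))))

noncomputable def on_23 : Net :=
 (Net.cons 12 (nat_lit 0x330)
 (Net.cons 6 (nat_lit 0x2e020)
 (Net.cons 3 (nat_lit 0x80100)
 (Net.cons 1 (nat_lit 0x48000)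
 (Net.cons 1 (nat_lit 0x482410)
 (Net.cons 1 (nat_lit 0x240208)
 (Net.cons 3 (nat_lit 0x80080)
 (Net.cons 6 (nat_lit 0x24010)
 (Net.cons 12 (nat_lit 0x2c0)
 Net.nil)))))))))

noncomputable def on_25 : Net :=
 (Net.cons 12 (nat_lit 0xc00)
 (Net.cons 6 (nat_lit 0x30)
 (Net.cons 3 (nat_lit 0x186000)
 (Net.cons 1 (nat_lit 0x41240)
 (Net.cons 1 (nat_lit 0x492480)
 (Net.cons 1 (nat_lit 0x208000)
 (Net.cons 3 (nat_lit 0x186140)
 (Net.cons 6 (nat_lit 0x21030)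
 (Net.cons 12 (nat_lit 0xc00)
 Net.nil)))))))))

noncomputable def on : List Net := [Net.nil,
 on_1,
 on_2,
 on_3,
 on_4,
 on_5,
 Net.rev on_5,
 on_7,
 Net.rev on_1,
 Net.rev on_2,
 Net.rev on_3,
 on_11,
 Net.rev on_11,
 on_13,
 Net.rev on_13,
 on_15,
 Net.rev on_15,
 on_17,
 Net.rev on_17,
 on_19,
 Net.rev on_19,
 on_21,
 Net.rev on_21,
 on_23,
 Net.rev on_23,
 on_25,
 Net.rev on_25]

theorem on_ok : NetsOK 24 on := netsOK_of (by decide +kernel)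

noncomputable def opi : Net :=
 (Net.cons 12 (nat_lit 0x9bc)
 (Net.cons 6 (nat_lit 0x1c02c)
 (Net.cons 3 (nat_lit 0x102002)
 (Net.cons 1 (nat_lit 0x241008)
 (Net.cons 1 (nat_lit 0x80480)
 (Net.cons 1 (nat_lit 0x40240)
 (Net.cons 3 (nat_lit 0x186042)
 (Net.cons 6 (nat_lit 0x32033)
 (Net.cons 12 (nat_lit 0x8d7)
 Net.nil)))))))))

theorem opi_ok : opi.ok 24 := ok_of_netOK (by decide +kernel)

def oL : List ℕ := [1,2,3,4,5,6,8,9,10,11,12,13,14,15,16,17,18,19,20,21,22,23,24,25,26]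

noncomputable def oC : List Lev := [([11,12,13,14,15,16,17,18,19,20,21,22,23,24,25,26],[1,2,1,19,1,11],0,0,22),
 ([15,16,17,18,19,20,21,22,23,24,25,26],[11,13,11,23,15,13],1,1,21),
 ([19,20,21,22,23,24,25,26],[15,17,19,23,23,15],2,2,20),
 ([25,26],[19,21,19,23,23],3,3,16),
 ([],[25,25],4,4,3)]

noncomputable def oD : List (ℕ × List ℕ) := [(8,[1,1,1,1,1,1,1,1,1,1]),
 (9,[2,2,2,2]),
 (10,[3,3,3]),
 (11,[10,8,8]),
 (12,[1,1,3]),
 (13,[2,2,8]),
 (14,[1,9,9]),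
 (15,[13,12,14,11]),
 (16,[12,13,11,14]),
 (17,[11,13,13]),
 (18,[14,14,12]),
 (19,[16,18,18,16]),
 (20,[15,17,17,15]),
 (21,[16,16,17]),
 (22,[18,15,15]),
 (23,[18,18,18,16,18]),
 (24,[17,15,17,17,17]),
 (25,[20,22,23]),
 (26,[24,21,19]),
 (4,[21,15,26,1]),
 (5,[26,19,25,18,11,20,13]),
 (6,[25,20,23,15,26,14])]

theorem o_le : cl (gp on) oL ≤ cl (gp on) [1,2,3] := by
  rw [← cl_eq_of_slpB (k := 5) (D := oD) (L := [1,2,3]) on_ok (by norm_num) (by decide +kernel)]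
  exact cl_mono (sub_of_subB (by decide +kernel))

theorem o_m1 : gp on 1 ∈ (cl (gp nets) L).map (MulAut.conj opi.perm).toMonoidHom :=
  mem_conj_of_eqB (k := 5) (w := [77,71,69,76,65,69,3,66]) nets_ok (by norm_num) opi_ok (on_ok 1) (fun _ => mem_all) (by decide +kernel)

theorem o_m2 : gp on 2 ∈ (cl (gp nets) L).map (MulAut.conj opi.perm).toMonoidHom :=
  mem_conj_of_eqB (k := 5) (w := [77,73,76,69,76,64,69,4]) nets_ok (by norm_num) opi_ok (on_ok 2) (fun _ => mem_all) (by decide +kernel)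

theorem o_m3 : gp on 3 ∈ (cl (gp nets) L).map (MulAut.conj opi.perm).toMonoidHom :=
  mem_conj_of_eqB (k := 5) (w := [77,75,72,69,76,64,69,1]) nets_ok (by norm_num) opi_ok (on_ok 3) (fun _ => mem_all) (by decide +kernel)

theorem o_conj : cl (gp on) oL ≤ (cl (gp nets) L).map (MulAut.conj opi.perm).toMonoidHom :=
  o_le.trans (cl_le.2 (by simp only [List.forall_mem_cons]; exact ⟨o_m1, o_m2, o_m3, by simp⟩))

theorem o_ch : Nat.beq (chainB on oC oL) 443520 = true := by decide +kernel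

theorem o_ex : Exact on oC oL := by
  have := nets_ok.finite L
  exact exact_of_beq ((card_le_of_conj o_conj).trans card.le) o_ch

noncomputable def tb : ℕ → ℕ → ℕ := tbx 24 (tbk 5 4 prs5 on 32)

theorem tb_ok : TbA on tb := tbA_tbx on_ok (tbk_eq tr5 (by norm_num) (by norm_num) (by norm_num) on_ok)

noncomputable def par0 : ℕ := (nat_lit 0x40c210509055083311294609494083200)

noncomputable def par1 : ℕ := (nat_lit 0x1431358c3973523914da3cb35560b3c0)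

noncomputable def par2 : ℕ := (nat_lit 0x3d24506993d5693550453611492580)

noncomputable def par3 : ℕ := (nat_lit 0x5d5615598597613519597500)

noncomputable def par4 : ℕ := (nat_lit 0x1a640)

noncomputable def oP : List (ℕ → ℕ) := [(fun p => look2 par0 6 256 (Nat.sub p 0)),
 (fun p => look2 par1 6 256 (Nat.sub p 1)),
 (fun p => look2 par2 6 256 (Nat.sub p 2)),
 (fun p => look2 par3 6 256 (Nat.sub p 3)),
 (fun p => look2 par4 6 256 (Nat.sub p 4))]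

noncomputable def cxM : ℕ := (nat_lit 0x20)

theorem cx_b : centB on tb oC oL 1 0 0 22 [0,1,2,6,8] [] [1] [1,1,1,1,1,1,1,1,1,1] cxM = true := by decide +kernel

noncomputable def cxF (q : ℕ) : Bool := sift tb (fun e => witer tb [1] e q) [] oC oP oL [0,1,2,6,8] []

theorem cxA_0 : AllM cxM 256 cxF :=
  AllM.step (lo := 0) (m := 1) (AllM.zero _ _) (by decide +kernel)

theorem cx_c : ∀ c ∈ cl (gp on) oL, Commute c (gp on 1) → c ∈ cl (gp on) [1] := fun _ hc hz =>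
  Exact.cent on_ok tb_ok o_ex cx_b cxA_0 (by norm_num) (by norm_num) hc hz

noncomputable def cyM : ℕ := (nat_lit 0x6e0)

theorem cy_b : centB on tb oC oL 4 0 0 22 [0,1,2,3,4] [] [4] [4,4,4,4] cyM = true := by decide +kernel

noncomputable def cyF (q : ℕ) : Bool := sift tb (fun e => witer tb [4] e q) [] oC oP oL [0,1,2,3,4] []

theorem cyA_0 : AllM cyM 256 cyF :=
  AllM.step (lo := 0) (m := 1) (AllM.zero _ _) (by decide +kernel)

theorem cy_c : ∀ c ∈ cl (gp on) oL, Commute c (gp on 4) → c ∈ cl (gp on) [4] := fun _ hc hz =>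
  Exact.cent on_ok tb_ok o_ex cy_b cyA_0 (by norm_num) (by norm_num) hc hz

noncomputable def parO : ℕ := (nat_lit 0x4104100)

noncomputable def oO : ℕ := (nat_lit 0x1f)

noncomputable def oR : List (List ℕ × ℕ) := [([1,2,3],4)]

theorem o_b : outB on tb (bases oC) oL 11 3 1 3 0 oR [4] oO = true := by decide +kernel

noncomputable def oF (q : ℕ) : Bool := walk tb (fun p => look2 parO 6 256 (Nat.sub p 0)) (msk [4]) 0 (fun ws => allL [1,2] (candB tb oR [(1,0),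
 (2,3)] 13 q ws)) 1000 q []

theorem oA_0 : AllM oO 256 oF :=
  AllM.step (lo := 0) (m := 1) (AllM.zero _ _) (by decide +kernel)

theorem o_phi {Γ : Type*} [Group Γ] (e : Γ ≃* cl (gp nets) L) : ∃ φ : Γ →* Equiv.Perm ℕ, Function.Injective φ ∧ φ.range = cl (gp on) oL := by
  have := nets_ok.finite L
  exact relabel e _ o_conj (card.trans_le (lb_of_chainB on_ok o_ch))

theorem out_le {Γ : Type*} [Group Γ] (e : Γ ≃* cl (gp nets) L) : Finite (Out Γ) ∧ Nat.card (Out Γ) ≤ 2 := by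
  obtain ⟨φ, h1, h2⟩ := o_phi e
  exact card_out_le on_ok tb_ok o_ex o_b cy_b cy_c (by norm_num) h1 h2 o_le (m := 40320) (J := 5) (by norm_num)
    (((Nat.card_congr e.toEquiv).trans card).trans (by norm_num)) (by norm_num) (by norm_num) cx_c (by decide +kernel) (by norm_num) oA_0

noncomputable def oG (q : ℕ) : Bool := walk tb (fun p => look2 parO 6 256 (Nat.sub p 0)) (msk [4]) 0 (fun ws =>
  cnd (Nat.beq (wap tb [1] (wap tb (5 :: rva ws [6]) 1)) (wap tb (5 :: rva ws [6]) (wap tb [1,1] 1)))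
    (cnd (Nat.beq (wap tb [3] (wap tb (5 :: rva ws [6]) 1)) (wap tb (5 :: rva ws [6]) (wap tb [3,5,4,4,6] 1))) false true) true) 1000 q []

theorem oB_0 : AllM oO 256 oG :=
  AllM.step (lo := 0) (m := 1) (AllM.zero _ _) (by decide +kernel)

theorem o_rho : ∀ r ∈ [(1, [1,1]), (2, [2]), (3, [3,5,4,4,6])], gp on 7 * gp on r.1 * (gp on 7)⁻¹ = ev (gp on) r.2 := by
  intro r hr
  have := eq_of_eqB (k := 5) on_ok (by norm_num) (allL_iff.1 (show allL [(1, [1,1]), (2, [2]), (3, [3,5,4,4,6])]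
    (fun r => eqB 24 5 0 5 on [7, r.1] 0 (apd r.2 [7])) = true by decide +kernel) r hr)
  rw [mul_inv_eq_iff_eq_mul]
  simpa [apd_eq, ev] using this

theorem out_eq {Γ : Type*} [Group Γ] (e : Γ ≃* cl (gp nets) L) : Nat.card (Out Γ) = 2 := by
  obtain ⟨φ, h1, h2⟩ := o_phi e
  have a1 := o_rho _ List.mem_cons_self
  have a2 := o_rho _ (List.mem_cons_of_mem _ List.mem_cons_self)
  have a3 := o_rho _ (List.mem_cons_of_mem _ (List.mem_cons_of_mem _ List.mem_cons_self))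
  obtain ⟨σ, hσ⟩ := aut_of_norm on_ok h1 h2 o_le (ρ := gp on 7) (by
    simp only [List.forall_mem_cons]
    rw [a1, a2, a3]
    refine ⟨?_, ?_, ?_, by simp⟩ <;> exact ev_mem fun x hx => mem_cl (sub_of_subB (by decide +kernel) x hx))
  exact card_out_eq_two (out_le e) ⟨σ, not_inner on_ok tb_ok o_ex o_b cy_b cy_c (by norm_num) h2 (by norm_num) oB_0 σ
    (fun g h => by rw [hσ, h, a1]) (fun g h => by rw [hσ, h, a2, ev_single]) (fun g h => by rw [hσ, h, a3])⟩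

end Cfsg.Lib.Comp.M22
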