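import Cfsg.Agent.Lib.Comp.Golay

set_option maxRecDepth 100000

namespace Cfsg.Lib.Comp.M22

universe u

noncomputable def nets_1 : Net :=
 (Net.cons 12 (nat_lit 0x118)
 (Net.cons 6 (nat_lit 0x1a014)
 (Net.cons 3 (nat_lit 0x80086)
 (Net.cons 1 (nat_lit 0x48048)
 (Net.cons 1 (nat_lit 0x92482)
 (Net.cons 1 (nat_lit 0x9200)
 (Net.cons 3 (nat_lit 0x85142)
 (Net.cons 6 (nat_lit 0x36)
 (Net.cons 12 (nat_lit 0x580)
 Net.nil)))))))))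

noncomputable def nets_2 : Net :=
 (Net.cons 12 (nat_lit 0x944)
 (Net.cons 6 (nat_lit 0xc010)
 (Net.cons 3 (nat_lit 0x106106)
 (Net.cons 1 (nat_lit 0x8048)
 (Net.cons 1 (nat_lit 0x492412)
 (Net.cons 1 (nat_lit 0x208008)
 (Net.cons 3 (nat_lit 0x5104)
 (Net.cons 6 (nat_lit 0x3d00a)
 (Net.cons 12 (nat_lit 0xabc)
 Net.nil)))))))))

noncomputable def nets_64 : Net :=
 (Net.cons 12 (nat_lit 0x242)
 (Net.cons 6 (nat_lit 0x802a)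
 (Net.cons 3 (nat_lit 0x4)
 (Net.cons 1 (nat_lit 0x1048)
 (Net.cons 1 (nat_lit 0x12412)
 (Net.cons 1 (nat_lit 0x9208)
 (Net.cons 3 (nat_lit 0x80106)
 (Net.cons 6 (nat_lit 0x14020)
 (Net.cons 12 (nat_lit 0x74e)
 Net.nil)))))))))

noncomputable def nets_66 : Net :=
 (Net.cons 12 (nat_lit 0x288)
 (Net.cons 6 (nat_lit 0x8018)
 (Net.cons 3 (nat_lit 0x102000)
 (Net.cons 1 (nat_lit 0x208008)
 (Net.cons 1 (nat_lit 0x402010)
 (Net.cons 1 (nat_lit 0x200008)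
 (Net.cons 3 (nat_lit 0x1020c0)
 (Net.cons 6 (nat_lit 0x901c)
 (Net.cons 12 (nat_lit 0x288)
 Net.nil)))))))))

noncomputable def nets_67 : Net :=
 (Net.cons 12 (nat_lit 0xce4)
 (Net.cons 6 (nat_lit 0x6032)
 (Net.cons 3 (nat_lit 0x106)
 (Net.cons 1 (nat_lit 0x209240)
 (Net.cons 1 (nat_lit 0x402090)
 (Net.cons 1 (nat_lit 0x200048)
 (Net.cons 3 (nat_lit 0x4044)
 (Net.cons 6 (nat_lit 0x1d036)
 (Net.cons 12 (nat_lit 0x80c)
 Net.nil)))))))))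

noncomputable def nets_69 : Net :=
 (Net.cons 12 (nat_lit 0xce2)
 (Net.cons 6 (nat_lit 0x1c036)
 (Net.cons 3 (nat_lit 0x6)
 (Net.cons 1 (nat_lit 0x40240)
 (Net.cons 1 (nat_lit 0x90410)
 (Net.cons 1 (nat_lit 0x8)
 (Net.cons 3 (nat_lit 0x185084)
 (Net.cons 6 (nat_lit 0x19026)
 (Net.cons 12 (nat_lit 0xa1a)
 Net.nil)))))))))

noncomputable def nets_71 : Net :=
 (Net.cons 12 (nat_lit 0x468)
 (Net.cons 6 (nat_lit 0x18000)
 (Net.cons 3 (nat_lit 0x82000)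
 (Net.cons 1 (nat_lit 0x8240)
 (Net.cons 1 (nat_lit 0x80080)
 (Net.cons 1 (nat_lit 0x40040)
 (Net.cons 3 (nat_lit 0x84180)
 (Net.cons 6 (nat_lit 0x1a018)
 (Net.cons 12 (nat_lit 0x2c8)
 Net.nil)))))))))

noncomputable def nets_73 : Net :=
 (Net.cons 12 (nat_lit 0x148)
 (Net.cons 6 (nat_lit 0x14010)
 (Net.cons 1 (nat_lit 0x1248)
 (Net.cons 1 (nat_lit 0x2480)
 (Net.cons 1 (nat_lit 0x1240)
 (Net.cons 3 (nat_lit 0x42140)
 (Net.cons 6 (nat_lit 0x14010)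
 (Net.cons 12 (nat_lit 0x1d8)
 Net.nil))))))))

noncomputable def nets_74 : Net :=
 (Net.cons 12 (nat_lit 0x30)
 (Net.cons 6 (nat_lit 0x2014)
 (Net.cons 3 (nat_lit 0x180104)
 (Net.cons 1 (nat_lit 0x249040)
 (Net.cons 1 (nat_lit 0x400090)
 (Net.cons 1 (nat_lit 0x200000)
 (Net.cons 3 (nat_lit 0x184184)
 (Net.cons 6 (nat_lit 0x18004)
 (Net.cons 12 (nat_lit 0x540)
 Net.nil)))))))))

noncomputable def nets_76 : Net :=
 (Net.cons 12 (nat_lit 0x7f2)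
 (Net.cons 6 (nat_lit 0x3e000)
 (Net.cons 3 (nat_lit 0x6100)
 (Net.cons 1 (nat_lit 0x9000)
 (Net.cons 1 (nat_lit 0x10080)
 (Net.cons 1 (nat_lit 0x8000)
 (Net.cons 3 (nat_lit 0x144002)
 (Net.cons 6 (nat_lit 0x3e010)
 (Net.cons 12 (nat_lit 0x592)
 Net.nil)))))))))

noncomputable def nets : List Net := (apd [Net.nil,
 nets_1,
 nets_2,
 Net.rev nets_1,
 Net.rev nets_2,
 Net.nil,
 Net.nil,
 Net.nil,
 Net.nil,
 Net.nil,
 Net.nil,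
 Net.nil,
 Net.nil,
 Net.nil,
 Net.nil,
 Net.nil,
 Net.nil,
 Net.nil,
 Net.nil,
 Net.nil,
 Net.nil,
 Net.nil,
 Net.nil,
 Net.nil,
 Net.nil,
 Net.nil,
 Net.nil,
 Net.nil,
 Net.nil,
 Net.nil,
 Net.nil,
 Net.nil,
 Net.nil,
 Net.nil,
 Net.nil,
 Net.nil,
 Net.nil,
 Net.nil,
 Net.nil,
 Net.nil]
 [Net.nil,
 Net.nil,
 Net.nil,
 Net.nil,
 Net.nil,
 Net.nil,
 Net.nil,
 Net.nil,
 Net.nil,
 Net.nil,
 Net.nil,
 Net.nil,
 Net.nil,
 Net.nil,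
 Net.nil,
 Net.nil,
 Net.nil,
 Net.nil,
 Net.nil,
 Net.nil,
 Net.nil,
 Net.nil,
 Net.nil,
 Net.nil,
 nets_64,
 Net.rev nets_64,
 nets_66,
 nets_67,
 Net.rev nets_67,
 nets_69,
 Net.rev nets_69,
 nets_71,
 Net.rev nets_71,
 nets_73,
 nets_74,
 Net.rev nets_74,
 nets_76,
 Net.rev nets_76])

theorem nets_ok : NetsOK 24 nets := netsOK_of (by decide +kernel)

def L : List ℕ := [1,2]

noncomputable def slp : List (ℕ × List ℕ) := [(3,[1,1,1,1,1,1,1,1,1,1]),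
 (4,[2,2,2,2,2,2,2,2,2,2]),
 (64,[3,3,3,2,1,4]),
 (65,[2,3,4,1,1,1]),
 (66,[2,3,4,3,2,3,4]),
 (67,[64,66,65,66,65]),
 (68,[64,66,64,66,65]),
 (69,[66,64,66,65,65,66]),
 (70,[66,64,64,66,65,66]),
 (71,[69,67,67,67]),
 (72,[68,68,68,70]),
 (73,[67,69,67,69]),
 (74,[69,69,67,69,69]),
 (75,[70,70,68,70,70]),
 (76,[72,74,74,73]),
 (77,[73,75,75,71])]

theorem slp_ok : slpB 24 5 nets slp L = true := by decide +kernel

theorem mem_all {x : ℕ} (h : x ∈ L ++ slp.map (·.1)) : gp nets x ∈ cl (gp nets) L :=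
  cl_eq_of_slpB nets_ok (by norm_num) slp_ok ▸ mem_cl h

-- chain [([64,65,66,67,68,69,70,71,72,73,74,75,76,77],[],1,0,22),([67,68,69,70,71,72,73,74,75,76,77],[],2,0,21),([71,72,73,74,75,76,77],[],3,0,20),([76,77],[],4,0,16),([],[],5,0,3)]

open Cfsg.Lib.Golay in
theorem perm : Nonempty (Spor.M22 ≃* cl (gp nets) L) := by
  rw [← gen_gM22]
  exact equiv_of_coding gc (fun g hg => (inH_gM22 g hg).1) nets_ok (by decide +kernel) (by decide +kernel)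

theorem card : Nat.card (cl (gp nets) L) = 443520 := by
  obtain ⟨e⟩ := perm
  rw [← Nat.card_congr e.toEquiv, Golay.card_M22]

end Cfsg.Lib.Comp.M22
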